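import Groth.Agent.AlgzCohLib.Basic
import Groth.Agent.FormalLib.ModPow
import Mathlib.CategoryTheory.Abelian.Refinements

/-!
# The torsion-free image of a power of an element
-/

set_option autoImplicit false
set_option backward.isDefEq.respectTransparency false
set_option backward.isDefEq.respectTransparency.types false
universe u

open CategoryTheory CategoryTheory.Limits AlgebraicGeometry

noncomputable section

namespace Groth.Agent.TorsH1Lib

variable {A : Type u} [CommRing A] {X : Scheme.{u}} [X.Over (Spec (CommRingCat.of A))] (p : A)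

local notation "sm" => Formal.smulMod A

theorem smulMod_one (M : X.Modules) : sm M 1 = 𝟙 M := by
  refine Scheme.Modules.hom_ext _ _ fun U => ConcreteCategory.hom_ext _ _ fun x => ?_
  show FormalLib.secMap (sm M 1) U (FormalLib.toSec A M U x) = _
  rw [FormalLib.smulMod_app, one_smul]
  rfl

theorem smulMod_pow_add (M : X.Modules) (i j : ℕ) : sm M (p ^ (i + j)) = sm M (p ^ i) ≫ sm M (p ^ j) := by
  rw [add_comm, pow_add, FormalLib.smulMod_mul]

/-- Torsion of `p` is killed by `p ^ a`. -/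
def TorsBound (a : ℕ) (M : X.Modules) : Prop :=
  ∀ (k : ℕ) {T : X.Modules} (t : T ⟶ M), t ≫ sm M (p ^ (a + k)) = 0 → t ≫ sm M (p ^ a) = 0

variable (a : ℕ) (M : X.Modules)

/-- The image of multiplication by `p ^ a`. -/
abbrev Im : X.Modules := image (sm M (p ^ a))

abbrev toIm : M ⟶ Im p a M := factorThruImage _

abbrev ofIm : Im p a M ⟶ M := image.ι _

theorem toIm_ofIm : toIm p a M ≫ ofIm p a M = sm M (p ^ a) := image.fac _

theorem ofIm_toIm : ofIm p a M ≫ toIm p a M = sm (Im p a M) (p ^ a) := by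
  rw [← cancel_mono (ofIm p a M), Category.assoc, toIm_ofIm, AlgzCohLib.smulMod_naturality]

variable {M}

theorem mono_smul_Im (hM : TorsBound p a M) (m : ℕ) : Mono (sm (Im p a M) (p ^ m)) := by
  refine Preadditive.mono_of_cancel_zero _ fun {T} t ht => ?_
  obtain ⟨T', π, hπ, s, hs⟩ := surjective_up_to_refinements_of_epi (toIm p a M) t
  have h1 : (π ≫ t ≫ sm (Im p a M) (p ^ m)) ≫ ofIm p a M = 0 := by rw [ht, comp_zero, zero_comp]
  rw [Category.assoc, Category.assoc, ← AlgzCohLib.smulMod_naturality, ← Category.assoc, hs,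
    Category.assoc, ← Category.assoc (toIm p a M), toIm_ofIm, ← smulMod_pow_add] at h1
  have h2 := hM m s h1
  rw [← toIm_ofIm, ← Category.assoc] at h2
  have h3 : s ≫ toIm p a M = 0 := (cancel_mono (ofIm p a M)).1 (by rw [h2, zero_comp])
  rw [← hs] at h3
  exact (cancel_epi π).1 (by rw [h3, comp_zero])

variable (M)

/-- The inclusion with cokernel `M / p ^ (a + m)`. -/
abbrev incN (m : ℕ) : Im p a M ⟶ M := ofIm p a M ≫ sm M (p ^ m)

theorem incN_π (m : ℕ) : incN p a M m ≫ cokernel.π (sm M (p ^ (a + m))) = 0 := by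
  rw [← cancel_epi (toIm p a M), comp_zero, incN, ← Category.assoc, ← Category.assoc, toIm_ofIm,
    ← smulMod_pow_add, cokernel.condition]

/-- `0 ⟶ M' ⟶ M ⟶ M / p ^ (a + m) ⟶ 0`. -/
abbrev seqN (m : ℕ) : ShortComplex X.Modules := ShortComplex.mk _ _ (incN_π p a M m)

theorem shortExact_seqN {M : X.Modules} (hM : TorsBound p a M) (m : ℕ) : (seqN p a M m).ShortExact where
  mono_f := by
    haveI := mono_smul_Im p a hM m
    show Mono (ofIm p a M ≫ sm M (p ^ m))
    rw [AlgzCohLib.smulMod_naturality]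
    exact mono_comp _ _
  epi_g := inferInstanceAs (Epi (cokernel.π _))
  exact := by
    rw [ShortComplex.exact_iff_exact_up_to_refinements]
    intro T x hx
    obtain ⟨T', π, hπ, y, hy⟩ := (ShortComplex.exact_of_g_is_cokernel (ShortComplex.mk _ _
      (cokernel.condition (sm M (p ^ (a + m))))) (cokernelIsCokernel _)).exact_up_to_refinements x hx
    refine ⟨T', π, hπ, y ≫ toIm p a M, hy.trans ?_⟩
    show y ≫ sm M (p ^ (a + m)) = (y ≫ toIm p a M) ≫ ofIm p a M ≫ sm M (p ^ m)
    rw [Category.assoc, ← Category.assoc (toIm p a M), toIm_ofIm, ← smulMod_pow_add]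

/-- `0 ⟶ M' ⟶ M' ⟶ M' / p ^ m ⟶ 0`. -/
abbrev seqI (m : ℕ) : ShortComplex X.Modules :=
  ShortComplex.mk _ _ (cokernel.condition (sm (Im p a M) (p ^ m)))

theorem shortExact_seqI {M : X.Modules} (hM : TorsBound p a M) (m : ℕ) : (seqI p a M m).ShortExact where
  mono_f := mono_smul_Im p a hM m
  epi_g := inferInstanceAs (Epi (cokernel.π _))
  exact := ShortComplex.exact_of_g_is_cokernel _ (cokernelIsCokernel _)

/-- `M' / p ^ m` only depends on `M / p ^ (a + m)`. -/
theorem nonempty_iso_image (m : ℕ) {Q : X.Modules} (e : cokernel (sm M (p ^ (a + m))) ≅ Q) :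
    Nonempty (cokernel (sm (Im p a M) (p ^ m)) ≅ image (sm Q (p ^ a))) := by
  let q : M ⟶ Q := cokernel.π (sm M (p ^ (a + m))) ≫ e.hom
  let β₀ : Im p a M ⟶ Q := ofIm p a M ≫ q
  have w : sm (Im p a M) (p ^ m) ≫ β₀ = 0 := by
    show sm (Im p a M) (p ^ m) ≫ ofIm p a M ≫ cokernel.π _ ≫ e.hom = 0
    rw [← Category.assoc, ← AlgzCohLib.smulMod_naturality]
    exact (Category.assoc _ _ _).symm.trans ((congrArg (· ≫ e.hom) (incN_π p a M m)).trans zero_comp)
  have hex : (ShortComplex.mk _ _ w).Exact := by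
    rw [ShortComplex.exact_iff_exact_up_to_refinements]
    intro T x hx
    have hx' : (x ≫ ofIm p a M) ≫ cokernel.π (sm M (p ^ (a + m))) = 0 := by
      rw [← cancel_mono e.hom, zero_comp, Category.assoc, Category.assoc]
      exact hx
    obtain ⟨T', π, hπ, y, hy⟩ := (ShortComplex.exact_of_g_is_cokernel (ShortComplex.mk _ _
      (cokernel.condition (sm M (p ^ (a + m))))) (cokernelIsCokernel _)).exact_up_to_refinements _ hx'
    refine ⟨T', π, hπ, y ≫ toIm p a M, ?_⟩
    rw [← cancel_mono (ofIm p a M)]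
    show (π ≫ x) ≫ _ = ((y ≫ toIm p a M) ≫ sm (Im p a M) (p ^ m)) ≫ _
    rw [Category.assoc _ _ (ofIm p a M), hy, Category.assoc, Category.assoc, ← AlgzCohLib.smulMod_naturality,
      ← Category.assoc (toIm p a M), toIm_ofIm, ← smulMod_pow_add]
  haveI : Mono (cokernel.desc _ β₀ w) := (ShortComplex.exact_iff_mono_cokernel_desc _).1 hex
  haveI : StrongEpi (toIm p a M ≫ cokernel.π (sm (Im p a M) (p ^ m))) := strongEpi_of_epi _
  haveI : StrongEpi (q ≫ factorThruImage (sm Q (p ^ a))) := strongEpi_of_epi _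
  have h1 : (toIm p a M ≫ cokernel.π (sm (Im p a M) (p ^ m))) ≫ cokernel.desc _ β₀ w = q ≫ sm Q (p ^ a) := by
    rw [Category.assoc, cokernel.π_desc, ← Category.assoc, toIm_ofIm, AlgzCohLib.smulMod_naturality]
  have h2 : (q ≫ factorThruImage (sm Q (p ^ a))) ≫ image.ι _ = q ≫ sm Q (p ^ a) := by
    rw [Category.assoc, image.fac]
  exact ⟨image.isoStrongEpiMono _ _ h1 ≪≫ (image.isoStrongEpiMono _ _ h2).symm⟩

/-- Cokernels of divisible multiplications agree with those on the quotient. -/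
theorem nonempty_coker_iso {i n : ℕ} (h : i ≤ n) {Q : X.Modules} (e : cokernel (sm M (p ^ n)) ≅ Q) :
    Nonempty (cokernel (sm M (p ^ i)) ≅ cokernel (sm Q (p ^ i))) := by
  obtain ⟨j, rfl⟩ := Nat.exists_eq_add_of_le h
  let q : M ⟶ Q := cokernel.π (sm M (p ^ (i + j))) ≫ e.hom
  have wq : sm M (p ^ i) ≫ q ≫ cokernel.π (sm Q (p ^ i)) = 0 := by
    rw [← Category.assoc, ← AlgzCohLib.smulMod_naturality, Category.assoc, cokernel.condition, comp_zero]
  have wπ : sm M (p ^ (i + j)) ≫ cokernel.π (sm M (p ^ i)) = 0 := by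
    rw [add_comm, smulMod_pow_add, Category.assoc, cokernel.condition, comp_zero]
  let b : Q ⟶ cokernel (sm M (p ^ i)) := e.inv ≫ cokernel.desc _ _ wπ
  have hb : q ≫ b = cokernel.π (sm M (p ^ i)) := by simp [q, b]
  have wb : sm Q (p ^ i) ≫ b = 0 := by
    rw [← cancel_epi q, ← Category.assoc, AlgzCohLib.smulMod_naturality, Category.assoc, hb,
      cokernel.condition, comp_zero]
  exact ⟨{ hom := cokernel.desc _ _ wq
           inv := cokernel.desc _ b wb
           hom_inv_id := by rw [← cancel_epi (cokernel.π _), cokernel.π_desc_assoc, Category.comp_id,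
             Category.assoc, cokernel.π_desc, hb]
           inv_hom_id := by
             rw [← cancel_epi (cokernel.π (sm Q (p ^ i))), cokernel.π_desc_assoc, Category.comp_id,
               ← cancel_epi q, ← Category.assoc, hb, cokernel.π_desc] }⟩

/-- Morphisms pass to the images. -/
def imMap {M N : X.Modules} (φ : M ⟶ N) : Im p a M ⟶ Im p a N :=
  image.map (Arrow.homMk φ φ (AlgzCohLib.smulMod_naturality φ (p ^ a)) :
    Arrow.mk (sm M (p ^ a)) ⟶ Arrow.mk (sm N (p ^ a)))

theorem toIm_imMap {M N : X.Modules} (φ : M ⟶ N) : toIm p a M ≫ imMap p a φ = φ ≫ toIm p a N :=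
  image.factor_map (Arrow.homMk φ φ (AlgzCohLib.smulMod_naturality φ (p ^ a)) :
    Arrow.mk (sm M (p ^ a)) ⟶ Arrow.mk (sm N (p ^ a)))

end Groth.Agent.TorsH1Lib
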