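import Groth.Agent.TorsH1Lib.Alg
import Groth.Agent.TorsH1Lib.Image
import Groth.Agent.CurvLib.Euler
import Groth.Agent.QCohLib.AbCoh
import Groth.Agent.AtlasCohLib.Finiteness
import Groth.Agent.DegPullLib.H0

/-!
# Torsion of `H¹` through sections of truncations
-/

set_option autoImplicit false
set_option backward.isDefEq.respectTransparency false
set_option backward.isDefEq.respectTransparency.types false
set_option maxHeartbeats 1000000
universe u

open CategoryTheory CategoryTheory.Limits AlgebraicGeometry TopologicalSpace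
open QCohLib (toAbF)

noncomputable section

namespace Groth.Agent.TorsH1Lib

variable {R : Type u} [CommRing R] {X : Scheme.{u}} [X.Over (Spec (CommRingCat.of R))] {M N P : X.Modules}

local notation "sm" => Formal.smulMod R

/-- Cohomology, as a module over the base. -/
abbrev HC (M : X.Modules) (n : ℕ) : Type u := Coh.HH X M n

/-- Functoriality. -/
abbrev mp (φ : M ⟶ N) (n : ℕ) : HC M n →ₗ[R] HC N n := AtlasCoh.hLin (X ↘ Spec (CommRingCat.of R)) φ n

theorem mp_comp (φ : M ⟶ N) (ψ : N ⟶ P) {n : ℕ} (x : HC M n) :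
    mp (R := R) (φ ≫ ψ) n x = mp (R := R) ψ n (mp (R := R) φ n x) := by
  apply (QCohLib.hEquiv ((toAbF X).obj P) n).injective
  show QCohLib.hEquiv _ n (Sheaf.H.map _ n x) = QCohLib.hEquiv _ n (Sheaf.H.map _ n (Sheaf.H.map _ n x))
  rw [QCohLib.hEquiv_map, QCohLib.hEquiv_map, QCohLib.hEquiv_map, Functor.map_comp,
    Abelian.Ext.comp_assoc_of_second_deg_zero, Abelian.Ext.mk₀_comp_mk₀]

theorem mp_add (φ ψ : M ⟶ N) {n : ℕ} (x : HC M n) : mp (R := R) (φ + ψ) n x = mp (R := R) φ n x + mp (R := R) ψ n x := by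
  apply (QCohLib.hEquiv ((toAbF X).obj N) n).injective
  show QCohLib.hEquiv _ n (Sheaf.H.map _ n x) = QCohLib.hEquiv _ n (Sheaf.H.map _ n x + Sheaf.H.map _ n x)
  rw [map_add, QCohLib.hEquiv_map, QCohLib.hEquiv_map, QCohLib.hEquiv_map, Functor.map_add,
    Abelian.Ext.mk₀_add, Abelian.Ext.comp_add]

theorem mp_id {n : ℕ} (x : HC M n) : mp (R := R) (𝟙 M) n x = x := by
  show Sheaf.H.map ((toAbF X).map (𝟙 M)) n x = x
  rw [CategoryTheory.Functor.map_id, Sheaf.H.map_id_apply]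

theorem mp_smulMod (r : R) {n : ℕ} (x : HC M n) : mp (R := R) (sm M r) n x = r • x := rfl

section Gen

variable {C : Type (u + 1)} [Category.{u} C] [Abelian C] [HasExt.{u} C] {S S' : ShortComplex C} (hS : S.ShortExact) {A : C}

theorem gen_exact₃ (y : Abelian.Ext A S.X₂ 0) :
    (y.comp (Abelian.Ext.mk₀ S.g) (add_zero 0)).comp hS.extClass (zero_add 1) = 0 := by
  rw [Abelian.Ext.comp_assoc_of_second_deg_zero, hS.comp_extClass, Abelian.Ext.comp_zero]

theorem gen_exact₁ (z : Abelian.Ext A S.X₃ 0) :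
    (z.comp hS.extClass (zero_add 1)).comp (Abelian.Ext.mk₀ S.f) (add_zero 1) = 0 := by
  rw [Abelian.Ext.comp_assoc_of_third_deg_zero, hS.extClass_comp, Abelian.Ext.comp_zero]

theorem gen_delta (hS' : S'.ShortExact) (φ : S ⟶ S') (z : Abelian.Ext A S.X₃ 0) :
    (z.comp hS.extClass (zero_add 1)).comp (Abelian.Ext.mk₀ φ.τ₁) (add_zero 1) =
      (z.comp (Abelian.Ext.mk₀ φ.τ₃) (add_zero 0)).comp hS'.extClass (zero_add 1) := by
  rw [Abelian.Ext.comp_assoc_of_third_deg_zero, Abelian.Ext.comp_assoc_of_second_deg_zero]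
  exact congrArg (fun t => Abelian.Ext.comp z t (zero_add 1)) (hS.extClass_naturality hS' φ)

theorem gen_exact₁' (x : Abelian.Ext A S.X₁ 1) (h : x.comp (Abelian.Ext.mk₀ S.f) (add_zero 1) = 0) :
    ∃ z : Abelian.Ext A S.X₃ 0, z.comp hS.extClass (zero_add 1) = x :=
  Abelian.Ext.covariant_sequence_exact₁ _ hS x h (zero_add 1)

include hS in
theorem gen_exact₂' {n : ℕ} (x : Abelian.Ext A S.X₂ n)
    (h : x.comp (Abelian.Ext.mk₀ S.g) (add_zero n) = 0) :
    ∃ y : Abelian.Ext A S.X₁ n, y.comp (Abelian.Ext.mk₀ S.f) (add_zero n) = x :=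
  Abelian.Ext.covariant_sequence_exact₂ _ hS x h

theorem gen_exact₃' (z : Abelian.Ext A S.X₃ 0) (h : z.comp hS.extClass (zero_add 1) = 0) :
    ∃ y : Abelian.Ext A S.X₂ 0, y.comp (Abelian.Ext.mk₀ S.g) (add_zero 0) = z :=
  Abelian.Ext.covariant_sequence_exact₃ _ hS z (zero_add 1) h

end Gen

variable {T : ShortComplex X.Modules}

/-- The connecting map. -/
def delta (hT : T.ShortExact) (z : HC T.X₃ 0) : HC T.X₁ 1 :=
  Abelian.Ext.comp z (QCohLib.toAbF_shortExact hT).extClass (zero_add 1)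

theorem mp_zero {n : ℕ} (x : HC M n) : mp (R := R) (0 : M ⟶ N) n x = 0 := by
  have h0 := mp_add (R := R) (0 : M ⟶ N) 0 x
  rw [add_zero] at h0
  exact left_eq_add.1 h0

/-- The short complex of underlying abelian sheaves. -/
abbrev TA (T : ShortComplex X.Modules) : ShortComplex (QCohLib.AbSh X.toTopCat) := T.map (toAbF X)

theorem exact₂ (hT : T.ShortExact) (n : ℕ) (y : HC T.X₂ n) :
    mp (R := R) T.g n y = 0 ↔ ∃ x, mp (R := R) T.f n x = y := by
  refine ⟨fun h => ?_, ?_⟩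
  · exact gen_exact₂'.{u} (S := TA T) (QCohLib.toAbF_shortExact hT) y h
  rintro ⟨x, rfl⟩
  exact ((mp_comp T.f T.g x).symm.trans (congrArg (fun t => mp (R := R) t n x) T.zero)).trans (mp_zero x)

theorem exact₃ (hT : T.ShortExact) (z : HC T.X₃ 0) : delta hT z = 0 ↔ ∃ y, mp (R := R) T.g 0 y = z := by
  refine ⟨fun h => ?_, ?_⟩
  · exact gen_exact₃'.{u} (S := TA T) (QCohLib.toAbF_shortExact hT) z h
  rintro ⟨y, rfl⟩
  exact gen_exact₃.{u} (S := TA T) (QCohLib.toAbF_shortExact hT) y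

theorem exact₁ (hT : T.ShortExact) (x : HC T.X₁ 1) : mp (R := R) T.f 1 x = 0 ↔ ∃ z, delta hT z = x := by
  refine ⟨fun h => ?_, ?_⟩
  · exact gen_exact₁'.{u} (S := TA T) (QCohLib.toAbF_shortExact hT) x h
  rintro ⟨z, rfl⟩
  exact gen_exact₁.{u} (S := TA T) (QCohLib.toAbF_shortExact hT) z

/-- The connecting map is natural. -/
theorem delta_map (hT : T.ShortExact) {T' : ShortComplex X.Modules} (hT' : T'.ShortExact) (ψ : T ⟶ T')
    (z : HC T.X₃ 0) : mp (R := R) ψ.τ₁ 1 (delta hT z) = delta hT' (mp (R := R) ψ.τ₃ 0 z) :=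
  gen_delta.{u} (S := TA T) (S' := TA T') (QCohLib.toAbF_shortExact hT) (QCohLib.toAbF_shortExact hT')
    ((toAbF X).mapShortComplex.map ψ) z

/-- The connecting map, linearly. -/
def deltaL (hT : T.ShortExact) : HC T.X₃ 0 →ₗ[R] HC T.X₁ 1 where
  toFun := delta hT
  map_add' _ _ := Abelian.Ext.add_comp _ _ _ _
  map_smul' r z := by
    show delta hT (r • z) = r • delta hT z
    exact (delta_map (R := R) hT hT
      { τ₁ := sm T.X₁ r, τ₂ := sm T.X₂ r, τ₃ := sm T.X₃ r,
        comm₁₂ := (AlgzCohLib.smulMod_naturality T.f r).symm,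
        comm₂₃ := (AlgzCohLib.smulMod_naturality T.g r).symm } z).symm

theorem injective_mp_zero (φ : M ⟶ N) [Mono φ] : Function.Injective (mp (R := R) φ 0) := fun x y h => by
  apply (DegPullLib.e0 M).injective
  apply QCohLib.app_injective_of_mono φ ⊤
  have key : ∀ t : HC M 0, DegPullLib.e0 N (mp (R := R) φ 0 t) = φ.app ⊤ (DegPullLib.e0 M t) := fun t => by
    have h1 := QCohLib.hEquiv_map ((toAbF X).map φ) 0 t
    have h2 := QCohLib.h0_comp (QCohLib.hEquiv ((toAbF X).obj M) 0 t) ((toAbF X).map φ)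
    exact (congrArg (QCohLib.h0 (U := (⊤ : Opens X.toTopCat))) h1).trans h2
  exact (key x).symm.trans ((congrArg (DegPullLib.e0 N) h).trans (key y))

end Groth.Agent.TorsH1Lib
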