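import Groth.Agent.FormalLib.ModPow
import Groth.Agent.ProjFormLib.Frame
import Groth.Agent.KFlatLib.FreeOpen
import Mathlib.RingTheory.Flat.EquationalCriterion

/-!
# Uniform bound on the torsion of flat modules over a Noetherian scheme
-/

set_option autoImplicit false
universe u

open CategoryTheory CategoryTheory.Limits AlgebraicGeometry TopologicalSpace Opposite
open ProjFormLib (ger)

namespace Groth.Agent.TorsH1Lib

variable {A : Type u} [CommRing A] {X : Scheme.{u}} [X.Over (Spec (CommRingCat.of A))]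

/-- An element of the base, in a local ring. -/
noncomputable def germA (A : Type u) [CommRing A] {X : Scheme.{u}} [X.Over (Spec (CommRingCat.of A))] (x : X) :
    A →+* X.presheaf.stalk x :=
  (X.presheaf.germ ⊤ x trivial).hom.comp (Coh.toGlobal (X ↘ Spec (CommRingCat.of A)))

theorem germ_rhoA (a : A) {U : X.Opens} {x : X} (hx : x ∈ U) :
    X.presheaf.germ U x hx (FormalLib.rhoA A U a) = germA A x a :=
  X.presheaf.germ_res_apply (homOfLE (le_top : U ≤ ⊤)) x hx _

/-- Annihilators of powers stabilize uniformly in the local rings. -/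
theorem exists_bound [CompactSpace X] [IsLocallyNoetherian X] (p : A) :
    ∃ a : ℕ, ∀ (x : X) (k : ℕ) (c : X.presheaf.stalk x),
      germA A x p ^ (a + k) * c = 0 → germA A x p ^ a * c = 0 := by
  have key : ∀ x : X, ∃ (U : X.Opens) (a : ℕ), IsAffineOpen U ∧ x ∈ U ∧ ∀ y ∈ U, ∀ (k : ℕ) (c : X.presheaf.stalk y),
      germA A y p ^ (a + k) * c = 0 → germA A y p ^ a * c = 0 := fun x => by
    obtain ⟨U, hU, hxU, -⟩ := exists_isAffineOpen_mem_and_subset (X := X) (x := x) (U := ⊤) trivial
    haveI : IsNoetherianRing Γ(X, U) := IsLocallyNoetherian.component_noetherian ⟨U, hU⟩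
    let r : Γ(X, U) := FormalLib.rhoA A U p
    let N : ℕ →o Submodule Γ(X, U) Γ(X, U) := ⟨fun k => Submodule.torsionBy Γ(X, U) Γ(X, U) (r ^ k), fun i j h z hz => by
      simp only [Submodule.mem_torsionBy_iff, smul_eq_mul] at hz ⊢
      obtain ⟨d, rfl⟩ := Nat.exists_eq_add_of_le h
      rw [pow_add, mul_right_comm, hz, zero_mul]⟩
    obtain ⟨a, ha⟩ := monotone_stabilizes_iff_noetherian.mpr inferInstance N
    refine ⟨U, a, hU, hxU, fun y hy k c hc => ?_⟩
    letI := X.presheaf.algebra_section_stalk ⟨y, hy⟩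
    haveI := hU.isLocalization_stalk ⟨y, hy⟩
    let M := (hU.primeIdealOf ⟨y, hy⟩).asIdeal.primeCompl
    have hr : algebraMap Γ(X, U) (X.presheaf.stalk y) r = germA A y p := germ_rhoA p hy
    obtain ⟨⟨t, s⟩, hts⟩ := IsLocalization.surj M c
    have h1 : algebraMap Γ(X, U) (X.presheaf.stalk y) (r ^ (a + k) * t) = 0 := by
      rw [map_mul, map_pow, hr, ← hts, ← mul_assoc]
      exact mul_eq_zero_of_left hc _
    obtain ⟨s', hs'⟩ := (IsLocalization.map_eq_zero_iff M _ _).1 h1
    have h2 : r ^ a * ((s' : Γ(X, U)) * t) = 0 := by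
      have h3 : (s' : Γ(X, U)) * t ∈ N (a + k) := by
        show (s' : Γ(X, U)) * t ∈ Submodule.torsionBy _ _ (r ^ (a + k))
        rw [Submodule.mem_torsionBy_iff, smul_eq_mul, ← hs']; ring
      rw [← ha (a + k) (Nat.le_add_right a k)] at h3
      exact h3
    have h4 := congrArg (algebraMap Γ(X, U) (X.presheaf.stalk y)) h2
    rw [map_mul, map_mul, map_pow, hr, map_zero, ← hts] at h4
    have hu := (IsLocalization.map_units (X.presheaf.stalk y) s').mul (IsLocalization.map_units (X.presheaf.stalk y) s)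
    refine hu.mul_left_eq_zero.1 ?_
    calc germA A y p ^ a * c * (algebraMap Γ(X, U) (X.presheaf.stalk y) s' * algebraMap Γ(X, U) (X.presheaf.stalk y) s)
        = germA A y p ^ a * (algebraMap Γ(X, U) (X.presheaf.stalk y) s' *
            (c * algebraMap Γ(X, U) (X.presheaf.stalk y) s)) := by ring
      _ = 0 := h4
  choose U a hU hxU ha using key
  obtain ⟨t, ht⟩ := isCompact_univ.elim_finite_subcover (fun x => (U x : Set X)) (fun x => (U x).2)
    fun x _ => Set.mem_iUnion.2 ⟨x, hxU x⟩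
  refine ⟨t.sup a, fun x k c hc => ?_⟩
  obtain ⟨i, hit, hxi⟩ := Set.mem_iUnion₂.1 (ht (Set.mem_univ x))
  obtain ⟨d, hd⟩ := Nat.exists_eq_add_of_le (Finset.le_sup (f := a) hit)
  rw [hd] at hc ⊢
  have := ha i x hxi (d + k) c (by rw [← add_assoc]; exact hc)
  rw [pow_add, mul_right_comm, this, zero_mul]

/-- A flat module has no more torsion than the ring. -/
theorem smul_eq_zero_of_flat {R M : Type u} [CommRing R] [AddCommGroup M] [Module R M] [Module.Flat R M]
    {g h : R} (hgh : ∀ c : R, g * c = 0 → h * c = 0) (z : M) (hz : g • z = 0) : h • z = 0 := by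
  obtain ⟨κ, c, y, hxy, hc⟩ := Module.Flat.isTrivialRelation_of_sum_smul_eq_zero (R := R) (f := fun _ : Fin 1 => g)
    (x := fun _ => z) (by simpa using hz)
  have hz0 : z = _ := hxy 0
  rw [hz0, Finset.smul_sum]
  refine Finset.sum_eq_zero fun j _ => ?_
  have h1 := hc j
  simp at h1
  rw [← mul_smul, hgh _ h1, zero_smul]

/-- Uniformly bounded torsion in flat modules, in terms of morphisms. -/
theorem smulMod_bound (p : A) {a : ℕ}
    (ha : ∀ (x : X) (k : ℕ) (c : X.presheaf.stalk x), germA A x p ^ (a + k) * c = 0 → germA A x p ^ a * c = 0)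
    {M : X.Modules} (hM : ∀ x : X, Module.Flat (X.presheaf.stalk x) ((DerSch.stalkFunctor X x).obj M))
    (k : ℕ) {T : X.Modules} (t : T ⟶ M) (ht : t ≫ Formal.smulMod A M (p ^ (a + k)) = 0) :
    t ≫ Formal.smulMod A M (p ^ a) = 0 := by
  refine Scheme.Modules.hom_ext _ _ fun U => ConcreteCategory.hom_ext _ _ fun z => ?_
  let s : Γ(M, U) := t.app U z
  have h0 : FormalLib.rhoA A U (p ^ (a + k)) • s = 0 := congr(Scheme.Modules.Hom.app $ht U z)
  show FormalLib.rhoA A U (p ^ a) • s = 0
  refine ProjFormLib.section_ext _ _ fun x hx => ?_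
  have h1 := congrArg (ger M x hx) h0
  rw [ProjFormLib.ger_smul, germ_rhoA, map_pow] at h1
  rw [ProjFormLib.ger_smul, germ_rhoA, map_pow]
  have z0 : ger M x hx (0 : Γ(M, U)) = 0 := map_zero (M.presheaf.germ U x hx).hom
  rw [z0] at h1 ⊢
  haveI := hM x
  exact smul_eq_zero_of_flat (ha x k) _ h1

end Groth.Agent.TorsH1Lib
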