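import Groth.Agent.TorsH1Lib.Coh
import Groth.Agent.TorsH1Lib.Stalk
import Groth.Agent.PicAlgzLib.System
import Groth.Agent.DevissLib.Basic
import Groth.Agent.ExtShLib.Dualizing
import Groth.Agent.MiscFlat6.FreeStalks
import Groth.Agent.LocFreeCorepLib.Main
import Groth.Agent.QCohLib.Gen
import Groth.Agent.RankLocusLib.Mod
import Groth.Agent.CohCmpLib.StratIff
import Groth.Agent.KFlatLib.PerfectPull
import Groth.Agent.FlatFunLimLib.Main

/-!
# Sections of truncations
-/

set_option autoImplicit false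
set_option backward.isDefEq.respectTransparency false
set_option backward.isDefEq.respectTransparency.types false
set_option maxHeartbeats 1000000
universe u

open CategoryTheory CategoryTheory.Limits AlgebraicGeometry TopologicalSpace
open QCohLib (toAbF)

noncomputable section

namespace Groth.Agent.TorsH1Lib

variable {R : Type u} [CommRing R] {X : Scheme.{u}} [X.Over (Spec (CommRingCat.of R))]

local notation "sm" => Formal.smulMod R

variable (p : R) (a : ℕ)

theorem smulMod_zero (M : X.Modules) : sm M 0 = 0 := by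
  have h := FormalLib.smulMod_add (A := R) M 0 0
  rw [add_zero] at h
  exact left_eq_add.1 h

/-- Quotient by the multiples of an element is quotient by the ideal it generates. -/
theorem exists_coker_iso_smulFamily (b : R) (M : X.Modules) :
    ∃ d : cokernel (sm M b) ≅ cokernel (Formal.smulFamily (Ideal.span {b}) M),
      cokernel.π _ ≫ d.hom = cokernel.π _ := by
  have h1 : sm M b ≫ cokernel.π (Formal.smulFamily (Ideal.span {b}) M) = 0 := by
    have hb : b ∈ Ideal.span {b} := Ideal.mem_span_singleton_self b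
    rw [← Sigma.ι_desc (fun c : ↥(Ideal.span {b}) => sm M (c : R)) ⟨b, hb⟩]
    exact (Category.assoc _ _ _).trans ((congrArg
      (Sigma.ι (fun _ : ↥(Ideal.span {b}) => M) ⟨b, hb⟩ ≫ ·) (cokernel.condition _)).trans comp_zero)
  have h2 : Formal.smulFamily (Ideal.span {b}) M ≫ cokernel.π (sm M b) = 0 :=
    Sigma.hom_ext _ _ fun ⟨c, hc⟩ => by
      obtain ⟨d, rfl⟩ := Ideal.mem_span_singleton'.1 hc
      rw [comp_zero, ← Category.assoc]
      refine (congrArg (· ≫ cokernel.π (sm M b))
        (Sigma.ι_desc (fun c : ↥(Ideal.span {b}) => sm M (c : R)) ⟨d * b, hc⟩)).trans ?_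
      show sm M (d * b) ≫ _ = 0
      rw [mul_comm, FormalLib.smulMod_mul, Category.assoc, cokernel.condition, comp_zero]
  exact ⟨{ hom := cokernel.desc _ _ h1
           inv := cokernel.desc _ _ h2
           hom_inv_id := by rw [← cancel_epi (cokernel.π _), cokernel.π_desc_assoc, cokernel.π_desc, Category.comp_id]
           inv_hom_id := by rw [← cancel_epi (cokernel.π _), cokernel.π_desc_assoc, cokernel.π_desc, Category.comp_id] },
    cokernel.π_desc _ _ _⟩

/-- An isomorphism of coefficient modules, on cohomology. -/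
def mpE {M N : X.Modules} (e : M ≅ N) (n : ℕ) : HC M n ≃ₗ[R] HC N n :=
  LinearEquiv.ofLinear (mp (R := R) e.hom n) (mp (R := R) e.inv n)
    (LinearMap.ext fun x => by
      show mp (R := R) e.hom n (mp (R := R) e.inv n x) = x
      rw [← mp_comp, e.inv_hom_id, mp_id])
    (LinearMap.ext fun x => by
      show mp (R := R) e.inv n (mp (R := R) e.hom n x) = x
      rw [← mp_comp, e.hom_inv_id, mp_id])

theorem e0_mp {M N : X.Modules} (φ : M ⟶ N) (t : HC M 0) :
    DegPullLib.e0 N (mp (R := R) φ 0 t) = φ.app ⊤ (DegPullLib.e0 M t) := by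
  have h1 := QCohLib.hEquiv_map ((toAbF X).map φ) 0 t
  have h2 := QCohLib.h0_comp (QCohLib.hEquiv ((toAbF X).obj M) 0 t) ((toAbF X).map φ)
  exact (congrArg (QCohLib.h0 (U := (⊤ : Opens X.toTopCat))) h1).trans h2

theorem eq_unitHom {M : X.Modules} (τ : Coh.structureModule X ⟶ M) :
    τ = QCohLib.unitHom M (τ.app ⊤ (show Γ(Coh.structureModule X, ⊤) from (1 : Γ(X, ⊤)))) := by
  refine Scheme.Modules.hom_ext _ _ fun V => ConcreteCategory.hom_ext _ _ fun r => ?_
  rw [QCohLib.unitHom_app]
  let one : Γ(Coh.structureModule X, ⊤) := (1 : Γ(X, ⊤))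
  have h1 : (Coh.structureModule X).presheaf.map (homOfLE (le_top : V ≤ ⊤)).op one =
      (show Γ(Coh.structureModule X, V) from (1 : Γ(X, V))) := map_one (X.presheaf.map (homOfLE (le_top : V ≤ ⊤)).op).hom
  have h3 := QCohLib.app_smul τ V (show Γ(X, V) from r) ((Coh.structureModule X).presheaf.map (homOfLE (le_top : V ≤ ⊤)).op one)
  rw [QCohLib.app_map] at h3
  refine Eq.trans ?_ h3
  rw [h1]
  exact congrArg (τ.app V) (mul_one (show Γ(X, V) from r)).symm

/-- Morphisms from a free module lift when their values do. -/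
theorem exists_lift_free {M N : X.Modules} (π : M ⟶ N) {r : ℕ} (τ : FlatMod.freeMod X r ⟶ N)
    (h : ∀ j, ∃ y : HC M 0, mp (R := R) π 0 y = mp (R := R) (Sigma.ι (fun _ : Fin r => Coh.structureModule X) j ≫ τ) 0
      ((DegPullLib.e0 (Coh.structureModule X)).symm (show Γ(Coh.structureModule X, ⊤) from (1 : Γ(X, ⊤))))) :
    ∃ ψ : FlatMod.freeMod X r ⟶ M, ψ ≫ π = τ := by
  choose y hy using h
  refine ⟨Sigma.desc fun j => QCohLib.unitHom M (DegPullLib.e0 M (y j)), Sigma.hom_ext _ _ fun j => ?_⟩
  rw [Sigma.ι_desc_assoc, eq_unitHom (Sigma.ι (fun _ : Fin r => Coh.structureModule X) j ≫ τ),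
    QCohLib.app_unitHom_app, ← e0_mp (R := R), hy j, e0_mp (R := R)]
  exact congrArg (fun t => QCohLib.unitHom N ((Sigma.ι (fun _ : Fin r => Coh.structureModule X) j ≫ τ).app ⊤ t))
    (AddEquiv.apply_symm_apply (DegPullLib.e0 (Coh.structureModule X)) _)

/-- Length of sections of a truncation of the torsion free image. -/
theorem length_coker [IsDomain R] [IsDiscreteValuationRing R] {M : X.Modules} (hM : TorsBound p a M) (m : ℕ) :
    Module.length R (HC (cokernel (sm (Im p a M) (p ^ m))) 0) =
      Module.length R (HC (Im p a M) 0 ⧸ LinearMap.range (p ^ m • (LinearMap.id : HC (Im p a M) 0 →ₗ[R] HC (Im p a M) 0))) +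
        Module.length R (Submodule.torsionBy R (HC (Im p a M) 1) (p ^ m)) := by
  have hT := shortExact_seqI p a hM m
  refine length_mid p m (mp (R := R) (seqI p a M m).g 0) (deltaL (R := R) hT) (fun x => ?_) (fun z => ?_) (fun b => ?_)
  · exact exact₂ hT 0 x
  · exact exact₃ (R := R) hT z
  · exact exact₁ (R := R) hT b

/-- The sum of projection and inclusion is the identity. -/
theorem sum_π_ι {C : Type*} [Category C] [Preadditive C] {r : ℕ} (O : C) [HasCoproduct fun _ : Fin r => O] :
    ∑ j : Fin r, Sigma.desc (fun i : Fin r => if i = j then 𝟙 O else 0) ≫ Sigma.ι (fun _ : Fin r => O) j =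
      𝟙 (∐ fun _ : Fin r => O) :=
  Sigma.hom_ext _ _ fun i => by
    rw [Preadditive.comp_sum, Category.comp_id]
    refine (Finset.sum_eq_single i (fun j _ hj => ?_) (fun h => absurd (Finset.mem_univ i) h)).trans ?_
    · rw [Sigma.ι_desc_assoc, if_neg (Ne.symm hj), zero_comp]
    · rw [Sigma.ι_desc_assoc, if_pos rfl, Category.id_comp]

theorem mp_sum {M N : X.Modules} {ι : Type*} (s : Finset ι) (φ : ι → (M ⟶ N)) {n : ℕ} (x : HC M n) :
    mp (R := R) (∑ j ∈ s, φ j) n x = ∑ j ∈ s, mp (R := R) (φ j) n x := by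
  classical
  induction s using Finset.induction_on with
  | empty => rw [Finset.sum_empty, Finset.sum_empty, mp_zero]
  | insert j t hj ih => rw [Finset.sum_insert hj, Finset.sum_insert hj, mp_add, ih]

/-- A bound on the torsion of `H¹` of the image passes to free modules. -/
theorem torsion_free_mod (c : ℕ)
    (hc : ∀ (k : ℕ) (b : HC (Im p a (Coh.structureModule X)) 1), p ^ k • b = 0 → p ^ c • b = 0)
    (r k : ℕ) (b : HC (Im p a (FlatMod.freeMod X r)) 1) (hb : p ^ k • b = 0) : p ^ c • b = 0 := by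
  have hid : ∑ j : Fin r, imMap p a (Sigma.desc (fun i : Fin r => if i = j then 𝟙 (Coh.structureModule X) else 0)) ≫
      imMap p a (Sigma.ι (fun _ : Fin r => Coh.structureModule X) j) = 𝟙 (Im p a (FlatMod.freeMod X r)) := by
    rw [← cancel_epi (toIm p a (FlatMod.freeMod X r)), Preadditive.comp_sum, Category.comp_id]
    refine (Finset.sum_congr rfl fun j _ => ?_).trans
      ((Preadditive.sum_comp Finset.univ (fun j : Fin r =>
        Sigma.desc (fun i : Fin r => if i = j then 𝟙 (Coh.structureModule X) else 0) ≫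
          Sigma.ι (fun _ : Fin r => Coh.structureModule X) j) (toIm p a (FlatMod.freeMod X r))).symm.trans
        ((congrArg (· ≫ toIm p a (FlatMod.freeMod X r)) (sum_π_ι (r := r) (Coh.structureModule X))).trans
          (Category.id_comp _)))
    rw [← Category.assoc, toIm_imMap, Category.assoc, toIm_imMap, Category.assoc]
  have h1 := mp_sum (R := R) Finset.univ (fun j : Fin r =>
    imMap p a (Sigma.desc (fun i : Fin r => if i = j then 𝟙 (Coh.structureModule X) else 0)) ≫
      imMap p a (Sigma.ι (fun _ : Fin r => Coh.structureModule X) j)) (p ^ c • b)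
  rw [hid, mp_id] at h1
  rw [h1]
  refine Finset.sum_eq_zero fun j _ => ?_
  rw [mp_comp, map_smul, hc k _ (by rw [← map_smul, hb, map_zero]), map_zero]

/-- Sections of the first truncation coming from a deeper one lift. -/
theorem exists_lift {M : X.Modules} (hM : TorsBound p a M) {c : ℕ}
    (hc : ∀ (k : ℕ) (b : HC (Im p a M) 1), p ^ k • b = 0 → p ^ c • b = 0)
    (w : sm M (p ^ (a + (c + 1))) ≫ cokernel.π (sm M p) = 0)
    (z : HC (cokernel (sm M (p ^ (a + (c + 1))))) 0) :
    ∃ y : HC M 0, mp (R := R) (cokernel.π (sm M p)) 0 y = mp (R := R) (cokernel.desc _ _ w) 0 z := by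
  let π₁ := cokernel.π (sm M p)
  let T₁ := ShortComplex.mk _ _ (kernel.condition π₁)
  have hT₁ : T₁.ShortExact :=
    { exact := ShortComplex.exact_of_f_is_kernel _ (kernelIsKernel π₁)
      mono_f := inferInstanceAs (Mono (kernel.ι π₁))
      epi_g := inferInstanceAs (Epi π₁) }
  have hT := shortExact_seqN p a hM (c + 1)
  have w₁ : (ofIm p a M ≫ sm M p) ≫ π₁ = 0 := by rw [Category.assoc, cokernel.condition, comp_zero]
  let l : Im p a M ⟶ kernel π₁ := kernel.lift π₁ _ w₁
  let Φ : seqN p a M (c + 1) ⟶ T₁ :=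
    { τ₁ := sm (Im p a M) (p ^ c) ≫ l
      τ₂ := 𝟙 M
      τ₃ := cokernel.desc _ _ w
      comm₁₂ := by
        show (sm (Im p a M) (p ^ c) ≫ l) ≫ kernel.ι π₁ = (ofIm p a M ≫ sm M (p ^ (c + 1))) ≫ 𝟙 M
        rw [Category.assoc, kernel.lift_ι, Category.comp_id, ← Category.assoc, ← AlgzCohLib.smulMod_naturality,
          Category.assoc, smulMod_pow_add p M c 1, pow_one]
      comm₂₃ := by
        show 𝟙 M ≫ π₁ = cokernel.π _ ≫ cokernel.desc _ _ w
        rw [Category.id_comp, cokernel.π_desc] }
  let v := delta hT z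
  have hv : mp (R := R) (ofIm p a M ≫ sm M (p ^ (c + 1))) 1 v = 0 := (exact₁ (R := R) hT v).2 ⟨z, rfl⟩
  rw [mp_comp, mp_smulMod] at hv
  have hv2 : p ^ (c + 1 + a) • v = 0 := by
    have h := congrArg (mp (R := R) (toIm p a M) 1) hv
    rw [map_smul, map_zero, ← mp_comp, ofIm_toIm, mp_smulMod, ← mul_smul, ← pow_add] at h
    exact h
  have hv3 := hc _ v hv2
  have hd : delta hT₁ (mp (R := R) Φ.τ₃ 0 z) = 0 := by
    rw [← delta_map (R := R) hT hT₁ Φ]
    show mp (R := R) (sm (Im p a M) (p ^ c) ≫ l) 1 v = 0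
    rw [mp_comp, mp_smulMod, hv3, map_zero]
  exact (exact₃ (R := R) hT₁ _).1 hd

end Groth.Agent.TorsH1Lib

end
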