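import Groth.Agent.TorsH1Lib.Trunc
import Groth.Agent.RpushLib.AffBaseBC
import Groth.Agent.RedFibValLib.Scheme
import Groth.Agent.QuotSchLib.ZeroLocus
import Groth.Agent.FormalLib.Main

/-!
# Freeness from the generic fibre and a truncation
-/

set_option autoImplicit false
set_option backward.isDefEq.respectTransparency false
set_option backward.isDefEq.respectTransparency.types false
set_option maxHeartbeats 1000000
universe u

open CategoryTheory CategoryTheory.Limits AlgebraicGeometry TopologicalSpace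
open scoped TensorProduct

noncomputable section

namespace Groth.Agent.TorsH1Lib

variable {R : Type u} [CommRing R] [IsDomain R] [IsDiscreteValuationRing R] {X : Scheme.{u}}
  [X.Over (Spec (CommRingCat.of R))]

local notation "sm" => Formal.smulMod R

/-- Rank of a locally free module, read off on a pullback. -/
theorem rank_eq_of_pullback {Z : Scheme.{u}} (ι : Z ⟶ X) {E : X.Modules} {U : X.Opens} {n m : ℕ}
    (eU : Nonempty (E.restrict U.ι ≅ FlatMod.freeMod (↑U) n)) (z : Z) (hz : ι z ∈ U)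
    (e : Nonempty ((Scheme.Modules.pullback ι).obj E ≅ FlatMod.freeMod Z m)) : n = m := by
  let W : Z.Opens := ι ⁻¹ᵁ U
  have h1 : RankLocusLib.FreeAlong n ((Scheme.Modules.pullback ι).obj E) W.ι := by
    rw [RankLocusLib.freeAlong_pullback_iff, ← morphismRestrict_ι]
    exact RankLocusLib.freeAlong_comp ((RankLocusLib.freeAlong_restrict_iff E U).2 eU) _
  have h2 : RankLocusLib.FreeAlong m ((Scheme.Modules.pullback ι).obj E) W.ι :=
    (RankLocusLib.freeAlong_pullback_iff ι W.ι).2 (RankLocusLib.freeAlong_comp e W.ι)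
  exact CohCmpLib.rank_unique _ (show z ∈ W from hz) (show z ∈ W from hz)
    ((RankLocusLib.freeAlong_restrict_iff _ W).1 h1) ((RankLocusLib.freeAlong_restrict_iff _ W).1 h2)

variable [IsProper (X ↘ Spec (CommRingCat.of R))] (p : R) (hp : Irreducible p) (a : ℕ)

theorem isLocallyNoetherian_total (R : Type u) [CommRing R] [IsNoetherianRing R] {X : Scheme.{u}}
    [X.Over (Spec (CommRingCat.of R))] [IsProper (X ↘ Spec (CommRingCat.of R))] : IsLocallyNoetherian X :=
  LocallyOfFiniteType.isLocallyNoetherian (X ↘ Spec (CommRingCat.of R))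

theorem compactSpace_total (R : Type u) [CommRing R] {X : Scheme.{u}} [X.Over (Spec (CommRingCat.of R))]
    [IsProper (X ↘ Spec (CommRingCat.of R))] : CompactSpace X :=
  QuasiCompact.compactSpace_of_compactSpace (X ↘ Spec (CommRingCat.of R))

theorem torsBound_of_locFree
    (ha : ∀ (x : X) (k : ℕ) (c : X.presheaf.stalk x), germA R x p ^ (a + k) * c = 0 → germA R x p ^ a * c = 0)
    {M : X.Modules} (hM : FlatMod.IsFinLocFree M) : TorsBound p a M := fun k {T} t h =>
  smulMod_bound p ha (fun x => by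
    haveI := MiscFlat6.free_stalk_of_isFinLocFree hM x
    show Module.Flat (X.presheaf.stalk x) (M.presheaf.stalk x)
    infer_instance) k t h

theorem isCoh_Im {M : X.Modules} (hM : FlatMod.IsFinLocFree M) : Coh.IsCoh (Im p a M) := by
  haveI := isLocallyNoetherian_total R (X := X)
  haveI : Coh.IsQCoh M := (LocSuppLib.isCoh_of_isFinLocFree hM).1
  exact QCohLib.isCoh_of_mono (ofIm p a M) (LocSuppLib.isCoh_of_isFinLocFree hM)
    (@QCohLib.isQCoh_of_iso _ _ _ (Abelian.imageIsoImage _) (QCohLib.isQCoh_image (sm M (p ^ a))))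

include hp in
/-- Sections of the torsion free image are free. -/
theorem free_sections {M : X.Modules} (hT : TorsBound p a M) (hM : FlatMod.IsFinLocFree M) :
    Module.Free R (HC (Im p a M) 0) := by
  haveI : Module.Finite R (HC (Im p a M) 0) := FormalLib.finite_HH _ (isCoh_Im p a hM) 0
  haveI : Module.IsTorsionFree R (HC (Im p a M) 0) := by
    refine ⟨fun {s} hs => fun x y hxy => ?_⟩
    obtain ⟨k, u, rfl⟩ := IsDiscreteValuationRing.eq_unit_mul_pow_irreducible hs.ne_zero hp
    haveI := mono_smul_Im p a hT k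
    have hxy' : (↑u * p ^ k) • x = (↑u * p ^ k) • y := hxy
    rw [mul_smul, mul_smul] at hxy'
    exact injective_mp_zero (R := R) (sm (Im p a M) (p ^ k)) ((u.isUnit.smul_left_cancel).1 hxy')
  exact Module.free_of_finite_type_torsion_free'

local notation "K" => FractionRing R

include hp in
/-- Sections over the generic fibre compute the rank of the sections of the torsion free image. -/
theorem nonempty_sections_fractionRing (M : X.Modules) :
    Nonempty ((K ⊗[R] HC (Im p a M) 0) ≃ₗ[K] (K ⊗[R] HC M 0)) := by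
  let U := (mp (R := R) (ofIm p a M) 0).baseChange K
  let W := (mp (R := R) (toIm p a M) 0).baseChange K
  let P : K := algebraMap R K (p ^ a)
  have hP : P ≠ 0 := fun h => pow_ne_zero a hp.ne_zero
    ((IsFractionRing.injective R K) (h.trans (map_zero _).symm))
  have h1 : ∀ t, W (U t) = P • t := fun t => by
    induction t using TensorProduct.induction_on with
    | zero => simp
    | add x y hx hy => rw [map_add, map_add, hx, hy, smul_add]
    | tmul s x =>
      rw [LinearMap.baseChange_tmul, LinearMap.baseChange_tmul, ← mp_comp, ofIm_toIm, mp_smulMod,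
        TensorProduct.tmul_smul, ← algebraMap_smul K (p ^ a)]
  have h2 : ∀ t, U (W t) = P • t := fun t => by
    induction t using TensorProduct.induction_on with
    | zero => simp
    | add x y hx hy => rw [map_add, map_add, hx, hy, smul_add]
    | tmul s x =>
      rw [LinearMap.baseChange_tmul, LinearMap.baseChange_tmul, ← mp_comp, toIm_ofIm, mp_smulMod,
        TensorProduct.tmul_smul, ← algebraMap_smul K (p ^ a)]
  exact ⟨LinearEquiv.ofLinear U (P⁻¹ • W)
    (LinearMap.ext fun t => by simp [h2, inv_smul_smul₀ hP])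
    (LinearMap.ext fun t => by simp [h1, inv_smul_smul₀ hP])⟩

include hp in
/-- Sections of the torsion free image only depend on the generic fibre. -/
theorem nonempty_sections_equiv {E F : X.Modules} (hE : TorsBound p a E) (hE' : FlatMod.IsFinLocFree E)
    (hF : TorsBound p a F) (hF' : FlatMod.IsFinLocFree F)
    (e : (Scheme.Modules.pullback (pullback.fst (X ↘ Spec (CommRingCat.of R))
        (Spec.map (CommRingCat.ofHom (algebraMap R K))))).obj E ≅
      (Scheme.Modules.pullback (pullback.fst (X ↘ Spec (CommRingCat.of R))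
        (Spec.map (CommRingCat.ofHom (algebraMap R K))))).obj F) :
    Nonempty (HC (Im p a E) 0 ≃ₗ[R] HC (Im p a F) 0) := by
  haveI : Coh.IsQCoh E := (LocSuppLib.isCoh_of_isFinLocFree hE').1
  haveI : Coh.IsQCoh F := (LocSuppLib.isCoh_of_isFinLocFree hF').1
  haveI := compactSpace_total R (X := X)
  haveI := isLocallyNoetherian_total R (X := X)
  haveI := free_sections p hp a hE hE'
  haveI := free_sections p hp a hF hF'
  haveI : Module.Finite R (HC (Im p a E) 0) := FormalLib.finite_HH _ (isCoh_Im p a hE') 0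
  haveI : Module.Finite R (HC (Im p a F) 0) := FormalLib.finite_HH _ (isCoh_Im p a hF') 0
  let g := pullback.fst (X ↘ Spec (CommRingCat.of R)) (Spec.map (CommRingCat.ofHom (algebraMap R K)))
  let XK := pullback (X ↘ Spec (CommRingCat.of R)) (Spec.map (CommRingCat.ofHom (algebraMap R K)))
  letI : XK.Over (Spec (CommRingCat.of K)) := ⟨pullback.snd _ _⟩
  obtain ⟨bE⟩ := RpushLib.nonempty_affBase_bc (A := R) (B := K)
    (IsPullback.of_hasPullback (X ↘ Spec (CommRingCat.of R)) (Spec.map (CommRingCat.ofHom (algebraMap R K)))) E 0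
  obtain ⟨bF⟩ := RpushLib.nonempty_affBase_bc (A := R) (B := K)
    (IsPullback.of_hasPullback (X ↘ Spec (CommRingCat.of R)) (Spec.map (CommRingCat.ofHom (algebraMap R K)))) F 0
  obtain ⟨sE⟩ := nonempty_sections_fractionRing p hp a E
  obtain ⟨sF⟩ := nonempty_sections_fractionRing p hp a F
  let tot : (K ⊗[R] HC (Im p a E) 0) ≃ₗ[K] (K ⊗[R] HC (Im p a F) 0) :=
    sE ≪≫ₗ bE ≪≫ₗ mpE (R := K) e 0 ≪≫ₗ bF.symm ≪≫ₗ sF.symm
  have h := tot.finrank_eq
  rw [Module.finrank_baseChange, Module.finrank_baseChange] at h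
  exact FiniteDimensional.nonempty_linearEquiv_of_finrank_eq h

open PicAlgzLib (incl)

local notation "πX" => X ↘ Spec (CommRingCat.of R)

/-- Quotient by a power as a direct image from the thickening, compatibly with the units. -/
theorem exists_coker_iso_push (k : ℕ) (M : X.Modules) [Coh.IsQCoh M] :
    ∃ d : cokernel (sm M (p ^ (k + 1))) ≅ (Scheme.Modules.pushforward (incl (Ideal.span {p}) πX k)).obj
        ((Scheme.Modules.pullback (incl (Ideal.span {p}) πX k)).obj M),
      cokernel.π _ ≫ d.hom = (Scheme.Modules.pullbackPushforwardAdjunction (incl (Ideal.span {p}) πX k)).unit.app M := by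
  let J : Ideal R := Ideal.span {p}
  have hz := fun b (hb : b ∈ J ^ (k + 1)) => GrSysLib.toGlobal_eq_zero (PicAlgzLib.thickOf J πX) k hb
  have hi := GrSysLib.isIso_desc_unit (incl J πX k) (PicAlgzLib.incl_over J πX k) _ hz
    (PicAlgzLib.ker_incl_le J πX k) M
  obtain ⟨d, hd⟩ := exists_coker_iso_smulFamily (p ^ (k + 1)) M
  have hJ : J ^ (k + 1) = Ideal.span {p ^ (k + 1)} := Ideal.span_singleton_pow p (k + 1)
  have key : ∀ I : Ideal R, I = J ^ (k + 1) → ∃ d₂ : cokernel (Formal.smulFamily I M) ≅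
      (Scheme.Modules.pushforward (incl J πX k)).obj ((Scheme.Modules.pullback (incl J πX k)).obj M),
      cokernel.π _ ≫ d₂.hom = (Scheme.Modules.pullbackPushforwardAdjunction (incl J πX k)).unit.app M := by
    rintro _ rfl
    exact ⟨@asIso _ _ _ _ _ hi, cokernel.π_desc _ _ _⟩
  obtain ⟨d₂, hd₂⟩ := key _ hJ.symm
  exact ⟨d ≪≫ d₂, by rw [Iso.trans_hom, ← Category.assoc, hd, hd₂]⟩

include hp in
/-- Free on the generic fibre and modulo a high power of the uniformizer implies free. -/
theorem exists_pow_free [Surjective πX] :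
    ∃ k : ℕ, ∀ (E : X.Modules), FlatMod.IsFinLocFree E →
      (∃ r : ℕ, Nonempty ((Scheme.Modules.pullback (pullback.fst πX
        (Spec.map (CommRingCat.ofHom (algebraMap R K))))).obj E ≅ FlatMod.freeMod _ r)) →
      (∃ r : ℕ, Nonempty ((Scheme.Modules.pullback (incl (Ideal.span {p}) πX k)).obj E ≅ FlatMod.freeMod _ r)) →
      ∃ r : ℕ, Nonempty (E ≅ FlatMod.freeMod X r) := by
  haveI := isLocallyNoetherian_total R (X := X)
  haveI := compactSpace_total R (X := X)
  obtain ⟨a, ha⟩ := exists_bound (X := X) p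
  have hO : FlatMod.IsFinLocFree (Coh.structureModule X) := fun x =>
    ⟨⊤, 1, trivial, (RankLocusLib.freeAlong_restrict_iff _ _).1
      ⟨KFlatLib.pullUnitIso _ ≪≫ (coproductUniqueIso fun _ : Fin 1 => Coh.structureModule _).symm⟩⟩
  haveI : Module.Finite R (HC (Im p a (Coh.structureModule X)) 1) := FormalLib.finite_HH _ (isCoh_Im p a hO) 1
  obtain ⟨c, hc⟩ := exists_torsion_exponent p hp (HC (Im p a (Coh.structureModule X)) 1)
  refine ⟨a + c, fun E hE ⟨r', ⟨eK⟩⟩ ⟨r, ⟨eZ⟩⟩ => ⟨r, ?_⟩⟩
  let J : Ideal R := Ideal.span {p}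
  let F := FlatMod.freeMod X r
  have hF : FlatMod.IsFinLocFree F := LocFreeCorepLib.isFinLocFree_freeMod r
  haveI : Coh.IsQCoh E := (LocSuppLib.isCoh_of_isFinLocFree hE).1
  haveI : Coh.IsQCoh F := (LocSuppLib.isCoh_of_isFinLocFree hF).1
  have hTE := torsBound_of_locFree p a ha hE
  have hTF := torsBound_of_locFree p a ha hF
  have hclosed : ∀ x : X, ∃ y : X, x ⤳ y ∧ y ∈ Set.range (incl J πX (a + c)) ∧ y ∈ Set.range (incl J πX 0) :=
    fun x => by
    obtain ⟨y, hy, hye⟩ := RedFibValLib.exists_specializes_closedPoint (f := πX) x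
    have hJ : J ≤ (πX y).asIdeal := by
      rw [hye]
      exact IsLocalRing.le_maximalIdeal fun h => hp.not_isUnit (Ideal.span_singleton_eq_top.1 h)
    exact ⟨y, hy, PicAlgzLib.mem_range_incl J πX _ y hJ, PicAlgzLib.mem_range_incl J πX _ y hJ⟩
  have hrank : FlatMod.IsFinLocFreeOfRank r E := fun x => by
    obtain ⟨y, hxy, ⟨z, hz⟩, -⟩ := hclosed x
    obtain ⟨U, n, hyU, eU⟩ := hE y
    have hn := rank_eq_of_pullback (incl J πX (a + c)) eU z (by rw [hz]; exact hyU) ⟨eZ⟩
    subst hn
    exact ⟨U, hxy.mem_open U.2 hyU, eU⟩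
  have hr : r = r' := by
    let q : Spec (CommRingCat.of K) := IsLocalRing.closedPoint K
    obtain ⟨x, hx'⟩ := (πX).surjective (Spec.map (CommRingCat.ofHom (algebraMap R K)) q)
    have hx : x ∈ Set.range (pullback.fst πX (Spec.map (CommRingCat.ofHom (algebraMap R K)))) := by
      rw [Scheme.Pullback.range_fst]
      exact ⟨q, hx'.symm⟩
    obtain ⟨z, hz⟩ := hx
    obtain ⟨U, hxU, eU⟩ := hrank x
    exact rank_eq_of_pullback _ eU z (by rw [hz]; exact hxU) ⟨eK⟩
  subst hr
  obtain ⟨eH⟩ := nonempty_sections_equiv p hp a hTE hE hTF hF (eK ≪≫ (KFlatLib.pullFreeIso _ r).symm)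
  obtain ⟨dE, -⟩ := exists_coker_iso_push p (a + c) E
  obtain ⟨dF, -⟩ := exists_coker_iso_push p (a + c) F
  let eQ : cokernel (sm E (p ^ (a + (c + 1)))) ≅ cokernel (sm F (p ^ (a + (c + 1)))) :=
    dE ≪≫ (Scheme.Modules.pushforward (incl J πX (a + c))).mapIso
      (eZ ≪≫ (KFlatLib.pullFreeIso (incl J πX (a + c)) r).symm) ≪≫ dF.symm
  have hcF := torsion_free_mod (R := R) p a c hc r
  have hcE : ∀ (k : ℕ) (b : HC (Im p a E) 1), p ^ k • b = 0 → p ^ c • b = 0 := by
    haveI : Module.Finite R (HC (Im p a E) 0) := FormalLib.finite_HH _ (isCoh_Im p a hE) 0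
    haveI : Module.Finite R (HC (Im p a E) 1) := FormalLib.finite_HH _ (isCoh_Im p a hE) 1
    haveI : Module.Finite R (HC (Im p a F) 0) := FormalLib.finite_HH _ (isCoh_Im p a hF) 0
    haveI : Module.Finite R (HC (Im p a F) 1) := FormalLib.finite_HH _ (isCoh_Im p a hF) 1
    refine torsion_le p hp.ne_zero eH c hcF fun m hm => ?_
    have hle : a + m ≤ a + (c + 1) := by omega
    obtain ⟨i₁⟩ := nonempty_coker_iso p E hle eQ
    obtain ⟨i₂⟩ := nonempty_coker_iso p F hle (Iso.refl _)
    obtain ⟨j₁⟩ := nonempty_iso_image p a E m (i₁ ≪≫ i₂.symm)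
    obtain ⟨j₂⟩ := nonempty_iso_image p a F m (Iso.refl _)
    rw [← length_coker p a hTE m, ← length_coker p a hTF m]
    exact (mpE (R := R) (j₁ ≪≫ j₂.symm) 0).length_eq
  have w : sm E (p ^ (a + (c + 1))) ≫ cokernel.π (sm E p) = 0 := by
    rw [show a + (c + 1) = (a + c) + 1 from rfl, smulMod_pow_add p E (a + c) 1, pow_one, Category.assoc,
      cokernel.condition, comp_zero]
  let τ' : F ⟶ cokernel (sm E (p ^ (a + (c + 1)))) := cokernel.π _ ≫ eQ.inv
  let τ : F ⟶ cokernel (sm E p) := τ' ≫ cokernel.desc _ _ w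
  haveI : Epi (cokernel.desc _ _ w) := epi_of_epi_fac (cokernel.π_desc (sm E (p ^ (a + (c + 1)))) _ w)
  haveI : Epi τ := inferInstanceAs (Epi ((cokernel.π _ ≫ eQ.inv) ≫ cokernel.desc _ _ w))
  obtain ⟨ψ, hψ⟩ := exists_lift_free (R := R) (cokernel.π (sm E p)) τ fun j => by
    obtain ⟨y, hy⟩ := exists_lift p a hTE hcE w (mp (R := R) (Sigma.ι (fun _ : Fin r => Coh.structureModule X) j ≫ τ') 0
      ((DegPullLib.e0 (Coh.structureModule X)).symm (show Γ(Coh.structureModule X, ⊤) from (1 : Γ(X, ⊤)))))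
    refine ⟨y, hy.trans ?_⟩
    rw [← mp_comp, Category.assoc]
  haveI : Epi ψ := by
    let ι₀ := incl J πX 0
    obtain ⟨ff⟩ := ExtShLib.push_fullyFaithful ι₀
    haveI := ff.faithful
    let adj := Scheme.Modules.pullbackPushforwardAdjunction ι₀
    obtain ⟨d₁, hd₁⟩ : ∃ d₁ : cokernel (sm E p) ≅ (Scheme.Modules.pushforward ι₀).obj ((Scheme.Modules.pullback ι₀).obj E),
        cokernel.π _ ≫ d₁.hom = adj.unit.app E := by
      have h := exists_coker_iso_push p 0 E
      rw [zero_add, pow_one] at h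
      exact h
    haveI : Epi (τ ≫ d₁.hom) := epi_comp _ _
    have hu : adj.unit.app F ≫ (Scheme.Modules.pushforward ι₀).map ((Scheme.Modules.pullback ι₀).map ψ) = τ ≫ d₁.hom := by
      rw [← hψ, Category.assoc, hd₁]
      exact (adj.unit.naturality ψ).symm
    haveI : Epi ((Scheme.Modules.pushforward ι₀).map ((Scheme.Modules.pullback ι₀).map ψ)) := epi_of_epi_fac hu
    haveI : Epi ((Scheme.Modules.pullback ι₀).map ψ) := (Scheme.Modules.pushforward ι₀).epi_of_epi_map inferInstance
    obtain ⟨O, hO⟩ := FlatFunLimLib.exists_locus_epi ψ (LocSuppLib.isCoh_of_isFinLocFree hE).2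
    have hsub : Set.range (𝟙 X : X ⟶ X).base ⊆ (O : Set X) := fun x _ => by
      obtain ⟨y, hxy, -, hy⟩ := hclosed x
      exact hxy.mem_open O.2 (((hO _ ι₀).2 inferInstance) hy)
    haveI := (hO X (𝟙 X)).1 hsub
    let θ := Scheme.Modules.pullbackId X
    haveI : Epi ((Scheme.Modules.pullback (𝟙 X)).map ψ ≫ θ.hom.app E) := epi_comp _ _
    exact epi_of_epi_fac (θ.hom.naturality ψ).symm
  haveI := QuotSchLib.isIso_of_epi_rank (r := r)
    (show FlatMod.IsFinLocFreeOfRank r F from fun x => ⟨⊤, trivial, (RankLocusLib.freeAlong_restrict_iff _ _).1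
      ⟨KFlatLib.pullFreeIso _ r⟩⟩) hrank ψ
  exact ⟨(asIso ψ).symm⟩

end Groth.Agent.TorsH1Lib

end
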