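import Mathlib.RingTheory.Length
import Mathlib.RingTheory.OrderOfVanishing.Basic
import Mathlib.RingTheory.DiscreteValuationRing.Basic
import Mathlib.LinearAlgebra.FreeModule.PID
import Mathlib.LinearAlgebra.Dimension.Free
import Mathlib.RingTheory.DedekindDomain.PID
import Mathlib.RingTheory.KrullDimension.PID

/-!
# Lengths of truncations over a discrete valuation ring
-/

set_option autoImplicit false
universe u

namespace Groth.Agent.TorsH1Lib

variable {R : Type u} [CommRing R] [IsDomain R] [IsDiscreteValuationRing R]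

/-- Finite modules killed by a nonzero element have finite length. -/
theorem isArtinian_of_smul_eq_zero {a : R} (ha : a ≠ 0) (M : Type u) [AddCommGroup M] [Module R M]
    [Module.Finite R M] (h : ∀ x : M, a • x = 0) : IsArtinian R M := by
  obtain ⟨k, g, hg⟩ := Module.Finite.exists_fin' R M
  have := isFiniteLength_quotient_span_singleton R (mem_nonZeroDivisors_of_ne_zero ha)
  haveI : IsArtinian R (R ⧸ Ideal.span {a}) := (isFiniteLength_iff_isNoetherian_isArtinian.1 this).2
  let π : (Fin k → R) →ₗ[R] (Fin k → R ⧸ Ideal.span {a}) := (Ideal.span {a}).mkQ.compLeft (Fin k)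
  have hπ : Function.Surjective π := fun y =>
    ⟨fun i => (Submodule.mkQ_surjective _ (y i)).choose, funext fun i => (Submodule.mkQ_surjective _ (y i)).choose_spec⟩
  have hker : LinearMap.ker π ≤ LinearMap.ker g := fun y hy => by
    rw [LinearMap.mem_ker] at hy ⊢
    choose z hz using fun i => Ideal.mem_span_singleton'.1
      ((Submodule.Quotient.mk_eq_zero (Ideal.span {a})).1 (congrFun hy i))
    have : y = a • z := funext fun i => by rw [Pi.smul_apply, smul_eq_mul, ← hz i, mul_comm]
    rw [this, map_smul, h]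
  let g' := (LinearMap.ker π).liftQ g hker ∘ₗ (π.quotKerEquivOfSurjective hπ).symm.toLinearMap
  refine isArtinian_of_surjective _ g' fun x => ?_
  obtain ⟨y, rfl⟩ := hg x
  exact ⟨π y, by simp [g']⟩

variable (p : R)

/-- Length of the middle of an exact sequence `A ⟶ A ⟶ C ⟶ B ⟶ B`. -/
theorem length_mid (m : ℕ) {A B C : Type u} [AddCommGroup A] [Module R A] [AddCommGroup B] [Module R B]
    [AddCommGroup C] [Module R C] (f : A →ₗ[R] C) (g : C →ₗ[R] B)
    (hf : ∀ x, f x = 0 ↔ ∃ y, p ^ m • y = x) (hfg : ∀ z, g z = 0 ↔ ∃ x, f x = z)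
    (hg : ∀ b, p ^ m • b = 0 ↔ ∃ z, g z = b) :
    Module.length R C = Module.length R (A ⧸ LinearMap.range (p ^ m • (LinearMap.id : A →ₗ[R] A))) +
      Module.length R (Submodule.torsionBy R B (p ^ m)) := by
  have hrg : LinearMap.range g = Submodule.torsionBy R B (p ^ m) := SetLike.ext fun b => by
    rw [LinearMap.mem_range, Submodule.mem_torsionBy_iff]; exact (hg b).symm
  have hker : LinearMap.ker f = LinearMap.range (p ^ m • (LinearMap.id : A →ₗ[R] A)) := SetLike.ext fun x => by
    rw [LinearMap.mem_ker, LinearMap.mem_range]; exact hf x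
  rw [Module.length_eq_add_of_exact (LinearMap.range f).subtype g.rangeRestrict
    (Submodule.subtype_injective _) g.surjective_rangeRestrict (fun z => by
      constructor
      · intro h
        obtain ⟨x, rfl⟩ := (hfg z).1 (congrArg Subtype.val h)
        exact ⟨⟨f x, x, rfl⟩, rfl⟩
      · rintro ⟨⟨_, x, rfl⟩, rfl⟩
        exact Subtype.ext ((hfg _).2 ⟨x, rfl⟩))]
  rw [← (LinearEquiv.ofEq _ _ hrg).length_eq, ← hker, ← f.quotKerEquivRange.length_eq]

/-- Truncations of a finite module have finite length. -/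
theorem length_quot_ne_top (hp : p ≠ 0) (m : ℕ) (A : Type u) [AddCommGroup A] [Module R A] [Module.Finite R A] :
    Module.length R (A ⧸ LinearMap.range (p ^ m • (LinearMap.id : A →ₗ[R] A))) ≠ ⊤ := by
  haveI := isArtinian_of_smul_eq_zero (pow_ne_zero m hp)
    (A ⧸ LinearMap.range (p ^ m • (LinearMap.id : A →ₗ[R] A))) fun x => by
      obtain ⟨x, rfl⟩ := Submodule.mkQ_surjective _ x
      exact (Submodule.Quotient.mk_eq_zero _).2 ⟨x, rfl⟩
  exact Module.length_ne_top

/-- Equality of truncations transports a bound on torsion. -/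
theorem torsion_le (hp : p ≠ 0) {A A₂ B B₂ : Type u} [AddCommGroup A] [Module R A] [Module.Finite R A]
    [AddCommGroup A₂] [Module R A₂] [Module.Finite R A₂] [AddCommGroup B] [Module R B] [Module.Finite R B]
    [AddCommGroup B₂] [Module R B₂] [Module.Finite R B₂] (e : A ≃ₗ[R] A₂) (c : ℕ)
    (hc : ∀ (k : ℕ) (b : B₂), p ^ k • b = 0 → p ^ c • b = 0)
    (hlen : ∀ m, m = c ∨ m = c + 1 →
      Module.length R (A ⧸ LinearMap.range (p ^ m • (LinearMap.id : A →ₗ[R] A))) +
          Module.length R (Submodule.torsionBy R B (p ^ m)) =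
        Module.length R (A₂ ⧸ LinearMap.range (p ^ m • (LinearMap.id : A₂ →ₗ[R] A₂))) +
          Module.length R (Submodule.torsionBy R B₂ (p ^ m)))
    (k : ℕ) (b : B) (hb : p ^ k • b = 0) : p ^ c • b = 0 := by
  have hq : ∀ m, Module.length R (A ⧸ LinearMap.range (p ^ m • (LinearMap.id : A →ₗ[R] A))) =
      Module.length R (A₂ ⧸ LinearMap.range (p ^ m • (LinearMap.id : A₂ →ₗ[R] A₂))) := fun m => by
    refine (Submodule.Quotient.equiv _ _ e ?_).length_eq
    ext x
    simp only [Submodule.mem_map, LinearMap.mem_range, LinearMap.smul_apply, LinearMap.id_apply]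
    constructor
    · rintro ⟨_, ⟨y, rfl⟩, rfl⟩
      exact ⟨e y, by simp⟩
    · rintro ⟨y, rfl⟩
      exact ⟨p ^ m • e.symm y, ⟨e.symm y, rfl⟩, by simp⟩
  have ht : ∀ m, m = c ∨ m = c + 1 → Module.length R (Submodule.torsionBy R B (p ^ m)) =
      Module.length R (Submodule.torsionBy R B₂ (p ^ m)) := fun m hm => by
    have h := hlen m hm
    rw [hq m] at h
    exact (ENat.add_right_injective_of_ne_top (length_quot_ne_top p hp m A₂)) h
  have h2 : Submodule.torsionBy R B₂ (p ^ (c + 1)) = Submodule.torsionBy R B₂ (p ^ c) := by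
    ext z
    simp only [Submodule.mem_torsionBy_iff]
    exact ⟨fun h => hc _ z h, fun h => by rw [pow_succ', mul_smul, h, smul_zero]⟩
  have heq : Module.length R (Submodule.torsionBy R B (p ^ (c + 1))) =
      Module.length R (Submodule.torsionBy R B (p ^ c)) := by
    rw [ht _ (Or.inr rfl), ht _ (Or.inl rfl), h2]
  let P := Submodule.torsionBy R B (p ^ (c + 1))
  haveI : IsArtinian R P := isArtinian_of_smul_eq_zero (pow_ne_zero (c + 1) hp) P fun x => Subtype.ext x.2
  have hle : Submodule.torsionBy R B (p ^ c) ≤ P := fun z hz => by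
    simp only [P, Submodule.mem_torsionBy_iff] at hz ⊢
    rw [pow_succ', mul_smul, hz, smul_zero]
  have hPle : P ≤ Submodule.torsionBy R B (p ^ c) := by
    by_contra hne
    have hlt := Submodule.length_lt (M := P) (N := (Submodule.torsionBy R B (p ^ c)).comap P.subtype)
      fun h => hne fun z hz => (show (⟨z, hz⟩ : P) ∈ (Submodule.torsionBy R B (p ^ c)).comap P.subtype by
        rw [h]; trivial)
    rw [(Submodule.comapSubtypeEquivOfLe hle).length_eq, heq] at hlt
    exact lt_irrefl _ hlt
  induction k generalizing b with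
  | zero => rw [pow_zero, one_smul] at hb; rw [hb, smul_zero]
  | succ k ih =>
    have h1 : p ^ c • (p • b) = 0 := ih (p • b) (by rw [← mul_smul, ← pow_succ]; exact hb)
    exact hPle (by rw [Submodule.mem_torsionBy_iff, pow_succ, mul_smul]; exact h1)

/-- The torsion of a finite module is killed by a fixed power of a uniformizer. -/
theorem exists_torsion_exponent (hp : Irreducible p) (B : Type u) [AddCommGroup B] [Module R B] [Module.Finite R B] :
    ∃ c, ∀ (k : ℕ) (b : B), p ^ k • b = 0 → p ^ c • b = 0 := by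
  let N : ℕ →o Submodule R B := ⟨fun k => Submodule.torsionBy R B (p ^ k), fun i j h z hz => by
    simp only [Submodule.mem_torsionBy_iff] at hz ⊢
    obtain ⟨d, rfl⟩ := Nat.exists_eq_add_of_le h
    rw [pow_add, mul_comm, mul_smul, hz, smul_zero]⟩
  obtain ⟨c, hc⟩ := monotone_stabilizes_iff_noetherian.mpr inferInstance N
  refine ⟨c, fun k b hb => ?_⟩
  rcases le_total k c with h | h
  · exact N.mono h hb
  · exact (hc k h).ge hb

end Groth.Agent.TorsH1Lib
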